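import Groth.Agent.IsomTor8.FppfRep
import Groth.Agent.NeronLib.TorsorProp
import Groth.Prelude.Def_NonAbH2

/-!
# Equivariant morphisms between families of torsors
-/

set_option autoImplicit false
set_option linter.style.haveILetI false
set_option linter.unusedSectionVars false
set_option backward.isDefEq.respectTransparency.types false
set_option maxHeartbeats 1000000

universe u

open CategoryTheory CategoryTheory.Limits MonoidalCategory CartesianMonoidalCategory MonObj GrpObj AlgebraicGeometry Opposite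

noncomputable section

namespace Groth.Agent.IsomTor8

variable {Z : Scheme.{u}} {G E F : Over Z} [GrpObj G]

/-- Action on points. -/
def actP {N : Over Z} (a : AlgGrp.Action G N) {W : Over Z} (b : W ⟶ G) (n : W ⟶ N) : W ⟶ N := lift b n ≫ a.act

theorem comp_actP {N : Over Z} (a : AlgGrp.Action G N) {W W' : Over Z} (k : W' ⟶ W) (b : W ⟶ G) (n : W ⟶ N) :
    k ≫ actP a b n = actP a (k ≫ b) (k ≫ n) := by
  rw [actP, actP, comp_lift_assoc]

theorem actP_mul {N : Over Z} (a : AlgGrp.Action G N) {W : Over Z} (b b' : W ⟶ G) (n : W ⟶ N) :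
    actP a (b * b') n = actP a b (actP a b' n) := by
  have h := congrArg (fun f => lift (lift b b') n ≫ f) a.mul_act
  simp only [lift_whiskerRight_assoc, lift_lift_associator_hom_assoc, lift_whiskerLeft_assoc] at h
  exact h

theorem actP_one {N : Over Z} (a : AlgGrp.Action G N) {W : Over Z} (n : W ⟶ N) : actP a (1 : W ⟶ G) n = n := by
  have h := congrArg (fun f => lift (toUnit W) n ≫ f) a.one_act
  simp only [lift_whiskerRight_assoc, leftUnitor_hom, lift_snd] at h
  rw [actP, Hom.one_def]
  exact h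

/-- The quotient of two points of a pseudo-torsor. -/
def divP {N : Over Z} {a : AlgGrp.Action G N} (ha : NonAbH1.IsPseudoTorsorSch a) {W : Over Z} (e n : W ⟶ N) : W ⟶ G :=
  lift e n ≫ (haveI : IsIso (lift a.act (snd G N)) := ha; inv (lift a.act (snd G N))) ≫ fst G N

section Div

variable {N : Over Z} {a : AlgGrp.Action G N} (ha : NonAbH1.IsPseudoTorsorSch a) {W : Over Z}

include ha in
theorem actP_injective {b b' : W ⟶ G} {n : W ⟶ N} (h : actP a b n = actP a b' n) : b = b' :=
  (NeronLib.Formal.bijective_lift_act ha n).1 h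

theorem actP_divP (e n : W ⟶ N) : actP a (divP ha e n) n = e := by
  obtain ⟨b, hb⟩ := (NeronLib.Formal.bijective_lift_act ha n).2 e
  haveI : IsIso (lift a.act (snd G N)) := ha
  have h : lift b n ≫ lift a.act (snd G N) = lift e n := by
    rw [comp_lift, lift_snd]
    exact congrArg (lift · n) hb
  have : divP ha e n = b := by
    rw [divP, ← h, Category.assoc, IsIso.hom_inv_id_assoc, lift_fst]
  rw [this]
  exact hb

theorem divP_eq {e n : W ⟶ N} {b : W ⟶ G} (h : actP a b n = e) : divP ha e n = b :=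
  actP_injective ha ((actP_divP ha e n).trans h.symm)

theorem comp_divP {W' : Over Z} (k : W' ⟶ W) (e n : W ⟶ N) : k ≫ divP ha e n = divP ha (k ≫ e) (k ≫ n) := by
  rw [divP, divP, comp_lift_assoc]

theorem divP_act (γ : W ⟶ G) (e n : W ⟶ N) : divP ha (actP a γ e) n = γ * divP ha e n :=
  divP_eq ha (by rw [actP_mul, actP_divP])

end Div

variable (aE : AlgGrp.Action G E) (aF : AlgGrp.Action G F)

/-- Equivariance of a family of morphisms. -/
def IsEquivariant {T : Over Z} (c : E ⊗ T ⟶ F) : Prop :=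
  ∀ (W : Over Z) (γ : W ⟶ G) (e : W ⟶ E) (z : W ⟶ T), lift (actP aE γ e) z ≫ c = actP aF γ (lift e z ≫ c)

theorem isEquivariant_iff {T : Over Z} (c : E ⊗ T ⟶ F) :
    IsEquivariant aE aF c ↔
      (α_ G E T).inv ≫ (aE.act ▷ T) ≫ lift c (snd E T) =
        (G ◁ lift c (snd E T)) ≫ (α_ G F T).inv ≫ (aF.act ▷ T) := by
  constructor
  · intro h
    have := h (G ⊗ (E ⊗ T)) (fst _ _) (snd _ _ ≫ fst _ _) (snd _ _ ≫ snd _ _)
    have e1 : (α_ G E T).inv ≫ (aE.act ▷ T) =
        lift (actP aE (fst G (E ⊗ T)) (snd _ _ ≫ fst _ _)) (snd _ _ ≫ snd _ _) := by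
      apply CartesianMonoidalCategory.hom_ext
      · simp only [Category.assoc, whiskerRight_fst, lift_fst, actP]
        rw [← Category.assoc]
        congr 1
        apply CartesianMonoidalCategory.hom_ext <;> simp
      · simp
    have e2 : (G ◁ lift c (snd E T)) ≫ (α_ G F T).inv ≫ (aF.act ▷ T) =
        lift (actP aF (fst G (E ⊗ T)) (snd _ _ ≫ c)) (snd _ _ ≫ snd _ _) := by
      apply CartesianMonoidalCategory.hom_ext
      · simp only [Category.assoc, whiskerRight_fst, lift_fst, actP]
        rw [← Category.assoc, ← Category.assoc]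
        congr 1
        apply CartesianMonoidalCategory.hom_ext <;> simp
      · simp
    rw [← Category.assoc, e1, e2, comp_lift, lift_snd]
    refine congrArg (lift · _) ?_
    rw [this]
    refine congrArg (actP aF _) (congrArg (· ≫ c) ?_)
    apply CartesianMonoidalCategory.hom_ext <;> simp
  · intro h W γ e z
    have := congrArg (fun f => lift γ (lift e z) ≫ f ≫ fst F T) h
    simp only [Category.assoc, lift_lift_associator_inv_assoc, lift_whiskerRight_assoc, lift_whiskerLeft_assoc,
      lift_fst, comp_lift_assoc, lift_snd_assoc] at this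
    simpa [actP] using this

/-- Families of equivariant morphisms. -/
abbrev HomTor (T : Over Z) : Type u := {c : E ⊗ T ⟶ F // IsEquivariant aE aF c}

variable {aE aF}

/-- Base change of a family. -/
def pull {T T' : Over Z} (m : T' ⟶ T) (c : HomTor aE aF T) : HomTor aE aF T' :=
  ⟨(E ◁ m) ≫ c.1, fun W γ e z => by rw [lift_whiskerLeft_assoc, lift_whiskerLeft_assoc, c.2 W γ e (z ≫ m)]⟩

theorem pull_id {T : Over Z} (c : HomTor aE aF T) : pull (𝟙 T) c = c :=
  Subtype.ext (show (E ◁ 𝟙 T) ≫ c.1 = c.1 by rw [MonoidalCategory.whiskerLeft_id, Category.id_comp])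

theorem pull_comp {T T' T'' : Over Z} (a : T' ⟶ T) (b : T'' ⟶ T') (c : HomTor aE aF T) :
    pull (b ≫ a) c = pull b (pull a c) :=
  Subtype.ext (show (E ◁ (b ≫ a)) ≫ c.1 = (E ◁ b) ≫ (E ◁ a) ≫ c.1 by
    rw [MonoidalCategory.whiskerLeft_comp, Category.assoc])

variable (aE aF)

/-- The functor of equivariant families. -/
def homFun : (Over Z)ᵒᵖ ⥤ Type u where
  obj T := HomTor aE aF T.unop
  map t := TypeCat.ofHom fun c => pull t.unop c
  map_id T := ConcreteCategory.hom_ext _ _ fun c => pull_id c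
  map_comp a b := ConcreteCategory.hom_ext _ _ fun c => pull_comp a.unop b.unop c

theorem isSheaf_homFun : Presheaf.IsSheaf (QuotSh.J Scheme.fppfPrecoverage Z) (homFun aE aF) := by
  rw [isSheaf_iff_isSheaf_of_type]
  intro T R hR x hx
  have hY : Presieve.IsSheaf (QuotSh.J Scheme.fppfPrecoverage Z) (yoneda.obj F) :=
    GrothendieckTopology.Subcanonical.isSheaf_of_isRepresentable (J := QuotSh.J Scheme.fppfPrecoverage Z) (yoneda.obj F)
  let R' : Sieve (E ⊗ T) := R.pullback (snd E T)
  have hR' : R' ∈ QuotSh.J Scheme.fppfPrecoverage Z (E ⊗ T) := GrothendieckTopology.pullback_stable _ _ hR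
  let yy : Presieve.FamilyOfElements (yoneda.obj F) R'.arrows := fun W f hf => lift (f ≫ fst E T) (𝟙 W) ≫ (x (f ≫ snd E T) hf).1
  have hxk : ∀ {W W' : Over Z} (g : W ⟶ T) (k : W' ⟶ W) (hg : R.arrows g) (hkg : R.arrows (k ≫ g)),
      (x (k ≫ g) hkg).1 = (E ◁ k) ≫ (x g hg).1 := fun g k hg hkg => by
    have := hx (𝟙 _) k hkg hg (Category.id_comp _)
    exact congrArg Subtype.val ((pull_id (x (k ≫ g) hkg)).symm.trans this)
  have hyy : yy.Compatible := by
    refine Presieve.compatible_iff_sieveCompatible _ |>.2 fun W W' f k hf => ?_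
    show yy (k ≫ f) _ = k ≫ yy f hf
    simp only [yy]
    have hkf : R.arrows (k ≫ f ≫ snd E T) := R.downward_closed hf k
    have e : ∀ (g : W' ⟶ T) (hg : R.arrows g), g = k ≫ f ≫ snd E T → (x g hg).1 = (E ◁ k) ≫ (x (f ≫ snd E T) hf).1 := by
      rintro g hg rfl
      exact hxk _ k hf hg
    rw [e _ _ (Category.assoc _ _ _), lift_whiskerLeft_assoc, Category.id_comp, Category.assoc, comp_lift_assoc,
      Category.comp_id]
  obtain ⟨c, hc, hcu⟩ := hY R' hR' yy hyy
  have hck : ∀ {W : Over Z} (e : W ⟶ E) (z : W ⟶ T) (hz : R.arrows z),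
      lift e z ≫ c = lift e (𝟙 W) ≫ (x z hz).1 := by
    intro W e z hz
    have hmem : R'.arrows (lift e z) := by
      show R.arrows (lift e z ≫ snd E T)
      rwa [lift_snd]
    refine (hc (lift e z) hmem).trans ?_
    show lift (lift e z ≫ fst E T) (𝟙 W) ≫ (x (lift e z ≫ snd E T) hmem).1 = _
    have e' : ∀ (g : W ⟶ T) (hg : R.arrows g), g = z → (x g hg).1 = (x z hz).1 := by
      rintro g hg rfl
      rfl
    rw [e' _ _ (lift_snd _ _), lift_fst]
  refine ⟨⟨c, fun W γ e z => ?_⟩, fun W g hg => Subtype.ext ?_, fun c' hc' => Subtype.ext (hcu c'.1 fun W f hf => ?_)⟩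
  · refine (hY (R.pullback z) (GrothendieckTopology.pullback_stable _ _ hR)).isSeparatedFor.ext fun W' k hk => ?_
    show k ≫ lift (actP aE γ e) z ≫ c = k ≫ actP aF γ (lift e z ≫ c)
    rw [comp_lift_assoc, comp_actP, comp_actP, comp_lift_assoc, hck _ _ hk, hck _ _ hk, (x (k ≫ z) hk).2]
  · show (E ◁ g) ≫ c = (x g hg).1
    have h1 : R.arrows (snd E W ≫ g) := R.downward_closed hg _
    have e1 : (E ◁ g) = lift (fst E W) (snd E W ≫ g) := by
      apply CartesianMonoidalCategory.hom_ext <;> simp
    rw [e1, hck _ _ h1, hxk g (snd E W) hg h1, lift_whiskerLeft_assoc, Category.id_comp, lift_fst_snd, Category.id_comp]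
  · show f ≫ c'.1 = lift (f ≫ fst E T) (𝟙 W) ≫ (x (f ≫ snd E T) hf).1
    rw [← show pull (f ≫ snd E T) c' = x (f ≫ snd E T) hf from hc' _ hf]
    show f ≫ c'.1 = _ ≫ (E ◁ (f ≫ snd E T)) ≫ c'.1
    rw [lift_whiskerLeft_assoc, Category.id_comp, ← comp_lift_assoc, lift_fst_snd, Category.id_comp]

variable {aE aF}

section Local

variable (hpE : NonAbH1.IsPseudoTorsorSch aE) (hpF : NonAbH1.IsPseudoTorsorSch aF) {V : Over Z}
  (eV : V ⟶ E) (fV : V ⟶ F)

/-- The tautological family on a trivialising object. -/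
def univHom : HomTor aE aF (G ⊗ V) :=
  ⟨actP aF (divP hpE (fst E (G ⊗ V)) (snd E (G ⊗ V) ≫ snd G V ≫ eV) * (snd E (G ⊗ V) ≫ fst G V))
      (snd E (G ⊗ V) ≫ snd G V ≫ fV), fun W γ e z => by
    simp only [comp_actP, comp_mul, comp_divP, lift_fst, lift_snd_assoc]
    rw [divP_act, _root_.mul_assoc, actP_mul]⟩

theorem lift_univHom {W T : Over Z} (g : T ⟶ G) (v : T ⟶ V) (e : W ⟶ E) (z : W ⟶ T) :
    lift e z ≫ (pull (lift g v) (univHom (aF := aF) hpE eV fV)).1 =
      actP aF (divP hpE e (z ≫ v ≫ eV) * (z ≫ g)) (z ≫ v ≫ fV) := by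
  show lift e z ≫ (E ◁ lift g v) ≫ actP aF _ _ = _
  rw [lift_whiskerLeft_assoc]
  simp only [comp_actP, comp_mul, comp_divP, lift_fst, lift_snd_assoc, comp_lift, Category.assoc]

include hpE in
theorem lift_eq_of_point {T : Over Z} (c : HomTor aE aF T) (n : T ⟶ E) {W : Over Z} (e : W ⟶ E) (z : W ⟶ T) :
    lift e z ≫ c.1 = actP aF (divP hpE e (z ≫ n)) (z ≫ lift n (𝟙 T) ≫ c.1) := by
  conv_lhs => rw [← actP_divP hpE e (z ≫ n)]
  rw [c.2, comp_lift_assoc, Category.comp_id]

theorem ext_points {T : Over Z} {c c' : HomTor aE aF T}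
    (h : ∀ (W : Over Z) (e : W ⟶ E) (z : W ⟶ T), lift e z ≫ c.1 = lift e z ≫ c'.1) : c = c' := by
  have := h _ (fst E T) (snd E T)
  rw [lift_fst_snd, Category.id_comp, Category.id_comp] at this
  exact Subtype.ext this

include hpE hpF in
theorem existsUnique_coord {T : Over Z} (c : HomTor aE aF T) (v : T ⟶ V) :
    ∃! g : T ⟶ G, pull (lift g v) (univHom hpE eV fV) = c := by
  refine ⟨divP hpF (lift (v ≫ eV) (𝟙 T) ≫ c.1) (v ≫ fV), ext_points fun W e z => ?_, fun g hg => ?_⟩
  · rw [lift_univHom, lift_eq_of_point hpE c (v ≫ eV) e z, actP_mul, comp_divP, actP_divP]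
  · refine (divP_eq hpF ?_).symm
    rw [← hg, lift_univHom]
    simp only [Category.id_comp]
    rw [divP_eq hpE (actP_one aE (v ≫ eV)), _root_.one_mul]

include hpE hpF eV fV in
/-- The families form an affine scheme of finite presentation. -/
theorem exists_rep [IsAffineHom G.hom] [LocallyOfFinitePresentation G.hom] [Flat V.hom]
    [LocallyOfFinitePresentation V.hom] [Surjective V.hom] :
    ∃ A : Over Z, Nonempty ((homFun aE aF).RepresentableBy A) ∧ IsAffineHom A.hom ∧
      LocallyOfFinitePresentation A.hom := by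
  let T₀ : Over Z := Over.mk (𝟙 Z)
  let etaT : homFun aE aF ⟶ yoneda.obj T₀ :=
    { app := fun T => TypeCat.ofHom fun _ => (Over.homMk T.unop.hom (Category.comp_id _) : T.unop ⟶ T₀)
      naturality := fun T T' t => ConcreteCategory.hom_ext _ _ fun φ => Over.OverMorphism.ext (Over.w t.unop).symm }
  let q : V ⟶ T₀ := Over.homMk V.hom (Category.comp_id _)
  haveI : Flat q.left := ‹_›
  haveI : LocallyOfFinitePresentation q.left := ‹_›
  haveI : Surjective q.left := ‹_›
  haveI : IsAffineHom (snd G V).left := MorphismProperty.pullback_snd (P := @IsAffineHom) _ _ inferInstance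
  let ρ : yoneda.obj (G ⊗ V) ⟶ homFun aE aF :=
    { app := fun T => TypeCat.ofHom fun z => pull z (univHom hpE eV fV)
      naturality := fun T T' t => ConcreteCategory.hom_ext _ _ fun z => pull_comp z t.unop _ }
  have hterm : ∀ {T : Over Z} (a b : T ⟶ T₀), a = b := fun a b => Over.mkIdTerminal.hom_ext a b
  have sq : IsPullback ρ (yoneda.map (snd G V)) etaT (yoneda.map q) := by
    refine IsPullback.of_forall_isPullback_app fun T => ?_
    rw [Types.isPullback_iff]
    refine ⟨ConcreteCategory.hom_ext _ _ fun z => hterm _ _, ?_, ?_⟩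
    · rintro (z : T.unop ⟶ G ⊗ V) (z' : T.unop ⟶ G ⊗ V) ⟨h₁, h₂⟩
      have h₁' : pull z (univHom (aF := aF) hpE eV fV) = pull z' (univHom hpE eV fV) := h₁
      have h₂' : z ≫ snd G V = z' ≫ snd G V := h₂
      rw [← lift_comp_fst_snd z, ← lift_comp_fst_snd z', ← h₂'] at h₁'
      have := (existsUnique_coord hpE hpF eV fV _ (z ≫ snd G V)).unique h₁' rfl
      exact CartesianMonoidalCategory.hom_ext _ _ this h₂'
    · intro c v _
      obtain ⟨g, hg, -⟩ := existsUnique_coord hpE hpF eV fV c (v : T.unop ⟶ V)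
      exact ⟨(lift g v : T.unop ⟶ G ⊗ V), hg, lift_snd g v⟩
  obtain ⟨A, a, e, ha, -⟩ := FppfRep.exists_representableBy (isSheaf_homFun aE aF) etaT q (snd G V) ρ sq
  have hA : A.hom = a.left := by
    have := Over.w a
    rw [show T₀.hom = 𝟙 Z from rfl] at this
    exact (Category.comp_id _).symm.trans this |>.symm
  refine ⟨A, ⟨e⟩, hA ▸ ha, ?_⟩
  -- finite presentation descends from the cover
  let iso : G ⊗ V ≅ A ⊗ V :=
    { hom := lift (e.homEquiv.symm (univHom hpE eV fV)) (snd G V)
      inv := lift ((existsUnique_coord hpE hpF eV fV (pull (fst A V) (e.homEquiv (𝟙 A) : HomTor aE aF A)) (snd A V)).choose) (snd A V)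
      hom_inv_id := by
        refine CartesianMonoidalCategory.hom_ext _ _ ?_ (by simp)
        rw [Category.assoc, lift_fst, Category.id_comp]
        have hc := (existsUnique_coord hpE hpF eV fV (pull (fst A V) (e.homEquiv (𝟙 A) : HomTor aE aF A)) (snd A V)).choose_spec.1
        set gg := (existsUnique_coord hpE hpF eV fV (pull (fst A V) (e.homEquiv (𝟙 A) : HomTor aE aF A)) (snd A V)).choose
        set hh := lift (e.homEquiv.symm (univHom (aF := aF) hpE eV fV)) (snd G V) with hhh
        refine (existsUnique_coord hpE hpF eV fV (univHom hpE eV fV) (snd G V)).unique ?_ (by rw [lift_fst_snd, pull_id])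
        have := congrArg (pull hh) hc
        rw [← pull_comp, ← pull_comp, comp_lift, hhh, lift_snd, lift_fst] at this
        refine this.trans ?_
        exact ((e.homEquiv_eq _).symm).trans (e.homEquiv.apply_symm_apply _)
      inv_hom_id := by
        refine CartesianMonoidalCategory.hom_ext _ _ ?_ (by simp)
        rw [Category.assoc, lift_fst, Category.id_comp]
        apply e.homEquiv.injective
        rw [e.homEquiv_comp, Equiv.apply_symm_apply]
        refine (existsUnique_coord hpE hpF eV fV (pull (fst A V) (e.homEquiv (𝟙 A) : HomTor aE aF A)) (snd A V)).choose_spec.1.trans ?_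
        exact (e.homEquiv_eq _).symm }
  have hloc : LocallyOfFinitePresentation (snd A V).left := by
    have h1 : LocallyOfFinitePresentation (snd G V).left :=
      MorphismProperty.pullback_snd (P := @LocallyOfFinitePresentation) _ _ inferInstance
    have h2 : iso.inv.left ≫ (snd G V).left = (snd A V).left := by
      rw [← Over.comp_left, lift_snd]
    rw [← h2]
    haveI : IsIso iso.inv.left := ((Over.forget Z).mapIso iso.symm).isIso_hom
    exact (MorphismProperty.cancel_left_of_respectsIso @LocallyOfFinitePresentation _ _).2 h1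
  exact MorphismProperty.of_isPullback_of_descendsAlong (P := @LocallyOfFinitePresentation) (Q := AlgSpLib.FPPF.{u})
    (IsPullback.of_hasPullback A.hom V.hom).flip ⟨⟨(inferInstance : Surjective V.hom), (inferInstance : Flat V.hom)⟩, (inferInstance : LocallyOfFinitePresentation V.hom)⟩ hloc

end Local

/-- Whiskering gives cartesian squares. -/
theorem isPullback_whisker (X : Over Z) {T T' : Over Z} (m : T' ⟶ T) :
    IsPullback (X ◁ m).left (snd X T').left (snd X T).left m.left := by
  have h1 : (X ◁ m).left ≫ (fst X T).left = (fst X T').left := by rw [← Over.comp_left, whiskerLeft_fst]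
  have h2 : (X ◁ m).left ≫ (snd X T).left = (snd X T').left ≫ m.left := by
    rw [← Over.comp_left, ← Over.comp_left, whiskerLeft_snd]
  refine IsPullback.of_right (h₁₁ := (X ◁ m).left) (h₁₂ := (fst X T).left) (h₂₂ := T.hom) (v₁₃ := X.hom) ?_ h2
    (IsPullback.of_hasPullback X.hom T.hom).flip.flip
  rw [h1, Over.w m]
  exact IsPullback.of_hasPullback X.hom T'.hom

/-- Equivariant families between torsors are isomorphisms. -/
theorem isIso_lift (hpE : NonAbH1.IsPseudoTorsorSch aE) (hpF : NonAbH1.IsPseudoTorsorSch aF) {V : Over Z}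
    [Flat V.hom] [LocallyOfFinitePresentation V.hom] [Surjective V.hom] (eV : V ⟶ E)
    {T : Over Z} (c : HomTor aE aF T) : IsIso (lift c.1 (snd E T)) := by
  let ψ := lift c.1 (snd E T)
  let m : T ⊗ V ⟶ T := fst T V
  let c' := pull m c
  let ψ' := lift c'.1 (snd E (T ⊗ V))
  let n : T ⊗ V ⟶ E := snd T V ≫ eV
  let p : T ⊗ V ⟶ F := lift n (𝟙 _) ≫ c'.1
  have hbij : ∀ W : Over Z, Function.Bijective (fun f : W ⟶ E ⊗ (T ⊗ V) => f ≫ ψ') := by
    intro W
    have hval : ∀ (e : W ⟶ E) (z : W ⟶ T ⊗ V), lift e z ≫ ψ' = lift (actP aF (divP hpE e (z ≫ n)) (z ≫ p)) z := by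
      intro e z
      rw [comp_lift, lift_snd, lift_eq_of_point hpE c' n e z]
    refine ⟨fun f f' h => ?_, fun g => ?_⟩
    · simp only at h
      rw [← lift_comp_fst_snd f, ← lift_comp_fst_snd f'] at h ⊢
      rw [hval, hval] at h
      have h2 : f ≫ snd _ _ = f' ≫ snd _ _ := by simpa using congrArg (· ≫ snd F (T ⊗ V)) h
      have h1 := congrArg (· ≫ fst F (T ⊗ V)) h
      simp only [lift_fst] at h1
      rw [h2] at h1
      have h3 := actP_injective hpF h1
      rw [h2, ← actP_divP hpE (f ≫ fst _ _) ((f' ≫ snd _ _) ≫ n), h3, actP_divP]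
    · refine ⟨lift (actP aE (divP hpF (g ≫ fst _ _) ((g ≫ snd _ _) ≫ p)) ((g ≫ snd _ _) ≫ n)) (g ≫ snd _ _), ?_⟩
      show lift _ _ ≫ ψ' = g
      rw [hval, divP_eq hpE rfl, actP_divP, lift_comp_fst_snd]
  have hiso : IsIso ψ' := NeronLib.Formal.isIso_of_bijective_comp ψ' hbij
  have sq : IsPullback (E ◁ m).left ψ'.left ψ.left (F ◁ m).left := by
    refine IsPullback.of_bot ?_ ?_ (isPullback_whisker F m)
    · rw [← Over.comp_left, ← Over.comp_left, lift_snd, lift_snd]
      exact isPullback_whisker E m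
    · rw [← Over.comp_left, ← Over.comp_left]
      refine congrArg _ (CartesianMonoidalCategory.hom_ext _ _ ?_ ?_)
      · simp [ψ, ψ', c', pull]
      · simp [ψ, ψ']
  have hm1 : Flat m.left := MorphismProperty.pullback_fst (P := @Flat) _ _ inferInstance
  have hm2 : LocallyOfFinitePresentation m.left := MorphismProperty.pullback_fst (P := @LocallyOfFinitePresentation) _ _ inferInstance
  have hm3 : Surjective m.left := MorphismProperty.pullback_fst (P := @Surjective) _ _ inferInstance
  have hQ : AlgSpLib.FPPF.{u} (F ◁ m).left :=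
    ⟨⟨MorphismProperty.of_isPullback (P := @Surjective) (isPullback_whisker F m).flip hm3,
      MorphismProperty.of_isPullback (P := @Flat) (isPullback_whisker F m).flip hm1⟩,
      MorphismProperty.of_isPullback (P := @LocallyOfFinitePresentation) (isPullback_whisker F m).flip hm2⟩
  have hψ' : MorphismProperty.isomorphisms Scheme.{u} ψ'.left := inferInstanceAs (IsIso ((Over.forget Z).map ψ'))
  have : IsIso ψ.left :=
    MorphismProperty.of_isPullback_of_descendsAlong (P := MorphismProperty.isomorphisms Scheme.{u})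
      (Q := AlgSpLib.FPPF.{u}) sq.flip hQ hψ'
  haveI : IsIso ((Over.forget Z).map ψ) := this
  exact isIso_of_reflects_iso ψ (Over.forget Z)

end Groth.Agent.IsomTor8
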