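import Groth.Agent.IsomTor8.Core
import Groth.Agent.NeronLib.TorsorProp
import Mathlib.AlgebraicGeometry.Sites.Fpqc

/-!
# Trivialising objects of torsors
-/

set_option autoImplicit false
set_option linter.style.haveILetI false
set_option backward.isDefEq.respectTransparency.types false

universe u

open CategoryTheory CategoryTheory.Limits MonoidalCategory CartesianMonoidalCategory AlgebraicGeometry

noncomputable section

namespace Groth.Agent.IsomTor8

variable {Z : Scheme.{u}}

/-- A locally trivial object has a point over one fppf cover. -/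
theorem exists_point_cover {X : Over Z} (hX : NonAbH1.IsLocallyTrivialFor Scheme.fppfPrecoverage X) :
    ∃ V : Over Z, Flat V.hom ∧ LocallyOfFinitePresentation V.hom ∧ Surjective V.hom ∧ Nonempty (V ⟶ X) := by
  obtain ⟨R, hR, hsec⟩ := hX
  choose U g hRg hz using fun z : Z => Scheme.JointlySurjective.exists_eq (K := Scheme.precoverage (@Flat ⊓ @LocallyOfFinitePresentation)) R hR z
  have hprop : ∀ z, (@Flat ⊓ @LocallyOfFinitePresentation : MorphismProperty Scheme.{u}) (g z) := fun z =>
    hR.2 (hRg z)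
  choose s hs using fun z => hsec (g z) (hRg z)
  refine ⟨Over.mk (Sigma.desc g), IsZariskiLocalAtSource.sigmaDesc (P := @Flat) fun z => (hprop z).1,
    IsZariskiLocalAtSource.sigmaDesc (P := @LocallyOfFinitePresentation) fun z => (hprop z).2, ⟨fun z => ?_⟩,
    ⟨Over.homMk (Sigma.desc s) (Sigma.hom_ext _ _ fun z => by
      show Sigma.ι U z ≫ Sigma.desc s ≫ X.hom = Sigma.ι U z ≫ Sigma.desc g
      rw [Sigma.ι_desc_assoc, Sigma.ι_desc, hs])⟩⟩
  obtain ⟨w, hw⟩ := hz z
  refine ⟨Sigma.ι U z w, ?_⟩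
  show Sigma.desc g (Sigma.ι U z w) = z
  rw [← Scheme.Hom.comp_apply, Sigma.ι_desc]
  exact hw

/-- The functor of equivariant families between two torsors is an affine scheme of finite presentation, and the families
are isomorphisms. -/
theorem exists_rep_of_torsors {G E F : Over Z} [GrpObj G] [IsAffineHom G.hom] [LocallyOfFinitePresentation G.hom]
    {aE : AlgGrp.Action G E} {aF : AlgGrp.Action G F} (hE : NonAbH1.IsTorsorFor Scheme.fppfPrecoverage aE)
    (hF : NonAbH1.IsTorsorFor Scheme.fppfPrecoverage aF) :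
    (∃ A : Over Z, Nonempty ((homFun aE aF).RepresentableBy A) ∧ IsAffineHom A.hom ∧
      LocallyOfFinitePresentation A.hom) ∧ ∀ (T : Over Z) (c : HomTor aE aF T), IsIso (lift c.1 (snd E T)) := by
  obtain ⟨V₁, h1, h1', h1'', ⟨e₁⟩⟩ := exists_point_cover hE.2
  obtain ⟨V₂, h2, h2', h2'', ⟨f₂⟩⟩ := exists_point_cover hF.2
  refine ⟨?_, fun T c => isIso_lift hE.1 hF.1 e₁ c⟩
  haveI : Flat (V₁ ⊗ V₂).hom := inferInstanceAs (Flat (pullback.fst V₁.hom V₂.hom ≫ V₁.hom))
  haveI : LocallyOfFinitePresentation (V₁ ⊗ V₂).hom :=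
    inferInstanceAs (LocallyOfFinitePresentation (pullback.fst V₁.hom V₂.hom ≫ V₁.hom))
  haveI : Surjective (pullback.fst V₁.hom V₂.hom) := MorphismProperty.pullback_fst (P := @Surjective) _ _ h2''
  haveI : Surjective (V₁ ⊗ V₂).hom := inferInstanceAs (Surjective (pullback.fst V₁.hom V₂.hom ≫ V₁.hom))
  exact exists_rep hE.1 hF.1 (fst V₁ V₂ ≫ e₁) (snd V₁ V₂ ≫ f₂)

end Groth.Agent.IsomTor8
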